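import Cfsg.Agent.Lib.GoldschmidtFusion

/-! Finite primitive groups with a suborbit of length three: the two-point stabilizer is a 2-group. -/

set_option autoImplicit false
set_option linter.unusedSectionVars false
set_option linter.style.haveILetI false

namespace Cfsg.Agent.H428.Sub3

open MulAction Pointwise

variable {G Ω : Type*} [Group G] [Finite G] [MulAction G Ω] [FaithfulSMul G Ω] [Finite Ω]

omit [Finite G] [FaithfulSMul G Ω] [Finite Ω] in
theorem conj_stab (g : G) (a : Ω) : MulAut.conj g • stabilizer G a = stabilizer G (g • a) :=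
  (stabilizer_smul_eq_stabilizer_map_conj g a).symm

omit [FaithfulSMul G Ω] [Finite Ω] in
theorem card_stab_eq [IsPretransitive G Ω] (a b : Ω) :
    Nat.card (stabilizer G a) = Nat.card (stabilizer G b) := by
  obtain ⟨g, rfl⟩ := exists_smul_eq G a b
  rw [← conj_stab]
  exact (Nat.card_congr (Subgroup.equivSMul (MulAut.conj g) (stabilizer G a)).toEquiv)

omit [Finite G] [Finite Ω] in
theorem eq_bot_of_le_stab [IsPretransitive G Ω] (X : Subgroup G) (hX : X.Normal) (a : Ω)
    (hXa : X ≤ stabilizer G a) : X = ⊥ := by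
  rw [eq_bot_iff]
  intro x hx
  rw [Subgroup.mem_bot]
  refine FaithfulSMul.eq_of_smul_eq_smul (α := Ω) fun c => ?_
  obtain ⟨g, rfl⟩ := exists_smul_eq G a c
  have h1 : g⁻¹ * x * g ∈ X := by
    have := hX.conj_mem x hx g⁻¹
    rwa [inv_inv] at this
  have h2 : (g⁻¹ * x * g) • a = a := mem_stabilizer_iff.1 (hXa h1)
  rw [one_smul]
  calc x • g • a = g • ((g⁻¹ * x * g) • a) := by rw [smul_smul, smul_smul]; congr 1; group
    _ = g • a := by rw [h2]

omit [Finite G] [Finite Ω] in
theorem stab_ne [hprim : IsPreprimitive G Ω] {a b : Ω} (hab : a ≠ b) (hne : stabilizer G a ≠ ⊥) :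
    stabilizer G a ≠ stabilizer G b := by
  intro h
  haveI : Nontrivial Ω := ⟨⟨a, b, hab⟩⟩
  obtain ⟨g, hg⟩ := exists_smul_eq G a b
  have hco := IsPreprimitive.isCoatom_stabilizer_of_isPreprimitive G a
  have hgn : g ∈ Subgroup.normalizer (stabilizer G a : Set G) := by
    rw [Subgroup.mem_normalizer_iff]
    intro x
    have h1 : MulAut.conj g • stabilizer G a = stabilizer G a := by rw [conj_stab, hg, ← h]
    constructor
    · intro hx
      rw [← h1]
      exact ⟨x, hx, rfl⟩
    · intro hx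
      rw [← h1] at hx
      obtain ⟨y, hy, hyx⟩ := hx
      have : y = x := by
        have : g * y * g⁻¹ = g * x * g⁻¹ := hyx
        exact mul_left_cancel (mul_right_cancel this)
      rwa [← this]
  have htop : Subgroup.normalizer (stabilizer G a : Set G) = ⊤ := by
    apply hco.2
    refine lt_of_le_of_ne Subgroup.le_normalizer ?_
    intro he
    rw [← he] at hgn
    exact hab (by rw [← hg]; exact (mem_stabilizer_iff.1 hgn).symm)
  exact hne (eq_bot_of_le_stab _ (Subgroup.normalizer_eq_top_iff.1 htop) a le_rfl)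

omit [Finite G] [Finite Ω] in
theorem sup_eq_top [hprim : IsPreprimitive G Ω] {a b : Ω} (hab : a ≠ b) (hne : stabilizer G a ≠ ⊥) :
    stabilizer G a ⊔ stabilizer G b = ⊤ := by
  haveI : Nontrivial Ω := ⟨⟨a, b, hab⟩⟩
  have hco := IsPreprimitive.isCoatom_stabilizer_of_isPreprimitive G a
  have hco' := IsPreprimitive.isCoatom_stabilizer_of_isPreprimitive G b
  rcases eq_or_lt_of_le (le_sup_left : stabilizer G a ≤ stabilizer G a ⊔ stabilizer G b) with h | h
  · exfalso
    have h1 : stabilizer G b ≤ stabilizer G a := by rw [h]; exact le_sup_right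
    rcases eq_or_lt_of_le h1 with h2 | h2
    · exact stab_ne hab hne h2.symm
    · exact hco.1 (hco'.2 _ h2)
  · exact hco.2 _ h

/-- a nontrivial subgroup of a stabilizer is not normalized by another stabilizer too -/
theorem eq_bot_of_norm [hprim : IsPreprimitive G Ω] {a b : Ω} (hab : a ≠ b) (hne : stabilizer G a ≠ ⊥)
    (X : Subgroup G) (hXa : X ≤ stabilizer G a) (h1 : stabilizer G a ≤ Subgroup.normalizer (X : Set G))
    (h2 : stabilizer G b ≤ Subgroup.normalizer (X : Set G)) : X = ⊥ := by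
  have h3 : Subgroup.normalizer (X : Set G) = ⊤ := by
    rw [eq_top_iff, ← sup_eq_top hab hne]
    exact sup_le h1 h2
  exact eq_bot_of_le_stab X (Subgroup.normalizer_eq_top_iff.1 h3) a hXa


theorem perm3 : ∀ (σ : Equiv.Perm (Fin 3)) (b : Fin 3), σ b = b → σ * σ = 1 := by decide

theorem perm_fix {X : Type*} (e : X ≃ Fin 3) (σ : Equiv.Perm X) (b : X) (hb : σ b = b) {n : ℕ} (hn : Odd n)
    (hσ : σ ^ n = 1) : σ = 1 := by
  have h1 : e.permCongrHom σ * e.permCongrHom σ = 1 := by
    refine perm3 _ (e b) ?_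
    show e (σ (e.symm (e b))) = e b
    rw [e.symm_apply_apply, hb]
  have h2 : σ * σ = 1 := by
    apply e.permCongrHom.injective
    rw [map_mul, h1, map_one]
  obtain ⟨k, rfl⟩ := hn
  rw [pow_succ, pow_mul, pow_two, h2, one_pow, one_mul] at hσ
  exact hσ

/-- odd order elements of `G_{ab}` fix the whole suborbit of length three. -/
theorem odd_fix {a b : Ω} (h3 : Nat.card (orbit (stabilizer G a) b) = 3) {x : G}
    (hxa : x ∈ stabilizer G a) (hxb : x ∈ stabilizer G b) {n : ℕ} (hn : Odd n) (hx : x ^ n = 1) {c : Ω}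
    (hc : c ∈ orbit (stabilizer G a) b) : x • c = c := by
  haveI : Finite (orbit (stabilizer G a) b) := Nat.finite_of_card_ne_zero (by rw [h3]; decide)
  let e : orbit (stabilizer G a) b ≃ Fin 3 := Finite.equivFinOfCardEq h3
  let σ : Equiv.Perm (orbit (stabilizer G a) b) := MulAction.toPerm (⟨x, hxa⟩ : stabilizer G a)
  have h1 : σ = 1 := by
    refine perm_fix e σ ⟨b, mem_orbit_self b⟩ ?_ hn ?_
    · exact Subtype.ext (mem_stabilizer_iff.1 hxb)
    · have : σ ^ n = MulAction.toPermHom (stabilizer G a) (orbit (stabilizer G a) b) ((⟨x, hxa⟩ : stabilizer G a) ^ n) := by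
        rw [map_pow]; rfl
      rw [this]
      have h2 : (⟨x, hxa⟩ : stabilizer G a) ^ n = 1 := Subtype.ext (by simpa using hx)
      rw [h2, map_one]
  have h2 : σ ⟨c, hc⟩ = ⟨c, hc⟩ := by rw [h1]; rfl
  exact congrArg Subtype.val h2

/-- the subgroup generated by the elements of odd order of `G_{ab}` -/
def oddGen (G : Type*) {Ω : Type*} [Group G] [MulAction G Ω] (a b : Ω) : Subgroup G :=
  Subgroup.closure {x : G | x ∈ stabilizer G a ∧ x ∈ stabilizer G b ∧ ∃ n, Odd n ∧ x ^ n = 1}

theorem oddGen_norm {a b : Ω} (h3 : Nat.card (orbit (stabilizer G a) b) = 3) :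
    stabilizer G a ≤ Subgroup.normalizer (oddGen G a b : Set G) := by
  have key : ∀ h ∈ stabilizer G a, ∀ x ∈ oddGen G a b, h * x * h⁻¹ ∈ oddGen G a b := by
    intro h hh x hx
    have hle : oddGen G a b ≤ (oddGen G a b).comap (MulAut.conj h).toMonoidHom := by
      refine (Subgroup.closure_le _).2 ?_
      rintro y ⟨hya, hyb, n, hn, hyn⟩
      refine Subgroup.subset_closure ⟨mul_mem (mul_mem hh hya) (inv_mem hh), ?_, n, hn, ?_⟩
      · show (h * y * h⁻¹) • b = b
        have h1 : h⁻¹ • b ∈ orbit (stabilizer G a) b := ⟨⟨h⁻¹, inv_mem hh⟩, rfl⟩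
        rw [mul_smul, mul_smul, odd_fix h3 hya hyb hn hyn h1, smul_inv_smul]
      · show (h * y * h⁻¹) ^ n = 1
        rw [conj_pow, hyn, mul_one, mul_inv_cancel]
    exact hle hx
  intro h hh
  rw [Subgroup.mem_normalizer_iff]
  intro x
  refine ⟨key h hh x, fun hx => ?_⟩
  have := key h⁻¹ (inv_mem hh) _ hx
  have e : h⁻¹ * (h * x * h⁻¹) * h⁻¹⁻¹ = x := by group
  rwa [e] at this

theorem oddGen_comm (a b : Ω) : oddGen G a b = oddGen G b a := by
  unfold oddGen
  congr 1
  ext x
  constructor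
  · rintro ⟨h1, h2, h3⟩; exact ⟨h2, h1, h3⟩
  · rintro ⟨h1, h2, h3⟩; exact ⟨h2, h1, h3⟩

theorem card_orbit_mul (a b : Ω) : Nat.card (orbit (stabilizer G a) b) *
    Nat.card (stabilizer G a ⊓ stabilizer G b : Subgroup G) = Nat.card (stabilizer G a) := by
  have h1 := Nat.card_congr (orbitEquivQuotientStabilizer (stabilizer G a) b)
  have h2 : (stabilizer (stabilizer G a) b) = (stabilizer G b).subgroupOf (stabilizer G a) := by
    ext x; rfl
  have h3 := Subgroup.card_eq_card_quotient_mul_card_subgroup (stabilizer (stabilizer G a) b)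
  rw [h1]
  have h4 : Nat.card (stabilizer (stabilizer G a) b) = Nat.card (stabilizer G a ⊓ stabilizer G b : Subgroup G) := by
    rw [h2, inf_comm, ← Subgroup.inf_subgroupOf_right]
    exact Nat.card_congr (Subgroup.subgroupOfEquivOfLe inf_le_right).toEquiv
  rw [← h4, ← h3]


theorem ne_of_card {a b : Ω} (h3 : Nat.card (orbit (stabilizer G a) b) = 3) : a ≠ b := by
  rintro rfl
  have : orbit (stabilizer G a) a = {a} := by
    ext c
    constructor
    · rintro ⟨h, rfl⟩; exact h.2
    · rintro rfl; exact mem_orbit_self _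
  rw [this] at h3
  simp at h3

theorem stab_ne_bot {a b : Ω} (h3 : Nat.card (orbit (stabilizer G a) b) = 3) : stabilizer G a ≠ ⊥ := by
  intro h
  have := card_orbit_mul (G := G) a b
  rw [h3, h, Subgroup.card_bot] at this
  omega

theorem symm3 [IsPretransitive G Ω] {a b : Ω} (h3 : Nat.card (orbit (stabilizer G a) b) = 3) :
    Nat.card (orbit (stabilizer G b) a) = 3 := by
  have h1 := card_orbit_mul (G := G) a b
  have h2 := card_orbit_mul (G := G) b a
  rw [inf_comm, card_stab_eq b a, ← h1, h3] at h2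
  exact Nat.eq_of_mul_eq_mul_right Nat.card_pos h2

/-- the two-point stabilizer is a 2-group. -/
theorem isTwoGroup [hprim : IsPreprimitive G Ω] {a b : Ω}
    (h3 : Nat.card (orbit (stabilizer G a) b) = 3) :
    IsPGroup 2 (stabilizer G a ⊓ stabilizer G b : Subgroup G) := by
  have hab := ne_of_card h3
  have hb : oddGen G a b = ⊥ := by
    refine eq_bot_of_norm hab (stab_ne_bot h3) _ ?_ (oddGen_norm h3) ?_
    · refine (Subgroup.closure_le _).2 ?_
      rintro x ⟨hx, -⟩; exact hx
    · rw [oddGen_comm]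
      exact oddGen_norm (symm3 h3)
  rintro ⟨x, hxa, hxb⟩
  obtain ⟨k, m, hm, hn⟩ := Nat.exists_eq_two_pow_mul_odd (orderOf_pos x).ne'
  refine ⟨k, Subtype.ext ?_⟩
  show x ^ 2 ^ k = 1
  have : x ^ 2 ^ k ∈ oddGen G a b := Subgroup.subset_closure
    ⟨pow_mem hxa _, pow_mem hxb _, m, hm, by rw [← pow_mul, ← hn, pow_orderOf_eq_one]⟩
  rwa [hb, Subgroup.mem_bot] at this

theorem relIndex3 {a b : Ω} (h3 : Nat.card (orbit (stabilizer G a) b) = 3) :
    (stabilizer G a ⊓ stabilizer G b).relIndex (stabilizer G a) = 3 := by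
  have h1 := card_orbit_mul (G := G) a b
  have h2 := Subgroup.relIndex_mul_relIndex ⊥ (stabilizer G a ⊓ stabilizer G b) (stabilizer G a) bot_le inf_le_left
  rw [Subgroup.relIndex_bot_left, Subgroup.relIndex_bot_left, mul_comm, ← h1, h3] at h2
  exact Nat.eq_of_mul_eq_mul_right Nat.card_pos h2

/-- an element normalizing `G_{ab}` and taking `a` to `b`. -/
theorem exists_norm [hprim : IsPreprimitive G Ω] {a b : Ω}
    (h3 : Nat.card (orbit (stabilizer G a) b) = 3) :
    ∃ y : G, MulAut.conj y • (stabilizer G a ⊓ stabilizer G b) = stabilizer G a ⊓ stabilizer G b ∧ y • a = b := by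
  obtain ⟨g, hg⟩ := exists_smul_eq G a b
  set T := stabilizer G a ⊓ stabilizer G b with hT
  have hT2 : IsPGroup 2 T := isTwoGroup h3
  have hTb : T.relIndex (stabilizer G b) = 3 := by
    have := relIndex3 (symm3 h3)
    rwa [inf_comm] at this
  haveI : Fact (Nat.Prime 2) := ⟨Nat.prime_two⟩
  have hD : T.map (MulAut.conj g).toMonoidHom ≤ stabilizer G b := by
    have h1 : MulAut.conj g • stabilizer G a = stabilizer G b := by rw [conj_stab, hg]
    rw [← h1]
    exact Subgroup.map_mono inf_le_left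
  obtain ⟨n, hn, hle⟩ := Cfsg.Agent.Lib.GoldschmidtFusion.exists_conj_le_in (N := stabilizer G b) (R := T)
    (D := T.map (MulAut.conj g).toMonoidHom) hT2 (by rw [hTb]; decide) hD (hT2.map _)
  refine ⟨n * g, ?_, by rw [mul_smul, hg]; exact hn⟩
  have hle' : MulAut.conj (n * g) • T ≤ T := by
    rw [map_mul, mul_smul]
    exact hle
  exact Subgroup.eq_of_le_of_card_ge hle' (le_of_eq (Nat.card_congr (Subgroup.equivSMul (MulAut.conj (n * g)) T).toEquiv))

end Cfsg.Agent.H428.Sub3
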